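import Groth.Agent.Lib.Lim.Basic

/-!
# Opens descend to a stage
-/

universe u

open CategoryTheory CategoryTheory.Limits AlgebraicGeometry TopologicalSpace

namespace Groth.Agent.Lib.EtLim50.Stage

open Groth.Agent.Lib.Lim.Basic

variable {I : Type u} [SmallCategory I] [IsCofiltered I] {D : I ⥤ Scheme.{u}}
  [∀ {i j : I} (f : i ⟶ j), IsAffineHom (D.map f)] {c : Cone D} (hc : IsLimit c)
  {i : I} {T : Scheme.{u}} (a : T ⟶ D.obj i)

include hc in
/-- An open containing the image of the limit contains the image of a stage. -/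
theorem exists_range_subset [CompactSpace T] (A : T.Opens)
    (h : Set.range (pullback.fst a (c.π.app i)).base ⊆ A) :
    ∃ (j : I) (φ : j ⟶ i), Set.range (pullback.fst a (D.map φ)).base ⊆ A := by
  have := fun j => compactSpace_bcDiagram D a j
  let h₀ := IsPullback.of_hasPullback a (c.π.app i)
  let i₁ : Over i := Over.mk (𝟙 i)
  obtain ⟨j, g, hg⟩ := exists_map_preimage_le_map_preimage (bcDiagram D a) (bcCone h₀.w)
    (isLimitBcCone hc h₀) (i := i₁) (U := ⊤) (V := pullback.fst a (D.map i₁.hom) ⁻¹ᵁ A)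
    CompactSpace.isCompact_univ (fun z _ => by
      change (pullback.fst a (D.map i₁.hom)).base (((bcCone h₀.w).π.app i₁).base z) ∈ A
      exact Set.mem_of_eq_of_mem (congr($(bcCone_π_fst h₀.w i₁) z)) (h ⟨z, rfl⟩))
  refine ⟨j.left, j.hom, ?_⟩
  rintro _ ⟨z, rfl⟩
  have h2 : (pullback.fst a (D.map i₁.hom)).base (((bcDiagram D a).map g).base z) ∈ A :=
    hg (show z ∈ (bcDiagram D a).map g ⁻¹ᵁ ⊤ from trivial)
  exact Set.mem_of_eq_of_mem (congr($(bcDiagram_map_fst D a g) z)).symm h2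

include hc in
/-- An open of the base change of the limit contains the preimage of an affine open of a stage. -/
theorem exists_basis (O : (pullback a (c.π.app i)).Opens) {x : ↑(pullback a (c.π.app i))}
    (hx : x ∈ O) :
    ∃ (j : I) (φ : j ⟶ i) (l : pullback a (c.π.app i) ⟶ pullback a (D.map φ))
      (_ : l ≫ pullback.fst a (D.map φ) = pullback.fst a (c.π.app i))
      (_ : l ≫ pullback.snd a (D.map φ) = pullback.snd a (c.π.app i) ≫ c.π.app j)
      (U : (pullback a (D.map φ)).Opens), IsAffineOpen U ∧ l.base x ∈ U ∧ l ⁻¹ᵁ U ≤ O := by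
  let h₀ := IsPullback.of_hasPullback a (c.π.app i)
  obtain ⟨_, ⟨_, ⟨j, U, hU, rfl⟩, rfl⟩, hxU, hUO⟩ :=
    (isBasis_preimage_isAffineOpen (bcDiagram D a) (bcCone h₀.w)
      (isLimitBcCone hc h₀)).exists_subset_of_mem_open hx O.2
  exact ⟨j.left, j.hom, (bcCone h₀.w).π.app j, bcCone_π_fst h₀.w j, bcCone_π_snd h₀.w j, U, hU,
    hxU, hUO⟩

end Groth.Agent.Lib.EtLim50.Stage
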