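import Groth.Agent.Lib.EtSite.LocalRing
import Mathlib.AlgebraicGeometry.Sites.AffineEtale
import Mathlib.CategoryTheory.Filtered.Final
import Mathlib.AlgebraicGeometry.Morphisms.Affine

/-!
# The strictly henselian local scheme as the limit of the affine étale neighbourhoods
-/

universe u

open CategoryTheory CategoryTheory.Limits AlgebraicGeometry Opposite

set_option backward.isDefEq.respectTransparency false

namespace Groth.Agent.Lib.EtLim50.Nbhds

open Groth.Agent.Lib.EtSite Groth.Agent.Lib.EtSite.Basic

variable (Y : Scheme.{u}) {Ω : Type u} [Field Ω] [IsSepClosed Ω]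
  (η : Spec (CommRingCat.of Ω) ⟶ Y)

/-- A small model of the affine étale site. -/
noncomputable abbrev aff : SmallModel.{u} Y.AffineEtale ⥤ Y.Etale :=
  (equivSmallModel.{u} Y.AffineEtale).inverse ⋙ Scheme.AffineEtale.Spec Y

/-- The small category of affine étale neighbourhoods. -/
abbrev Idx : Type u := (aff Y ⋙ (Scheme.pointSmallEtale η).fiber).Elements

/-- The comparison with all étale neighbourhoods. -/
noncomputable abbrev incl : Idx Y η ⥤ (Scheme.pointSmallEtale η).fiber.Elements :=
  Functor.Elements.precomp (aff Y) (Scheme.pointSmallEtale η).fiber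

instance full_incl : (incl Y η).Full := by
  refine ⟨fun {a b} f => ⟨⟨(aff Y).preimage f.1, ?_⟩, Subtype.ext ((aff Y).map_preimage _)⟩⟩
  change (Scheme.pointSmallEtale η).fiber.map ((aff Y).map ((aff Y).preimage f.1)) a.2 = b.2
  rw [Functor.map_preimage]
  exact f.2

instance faithful_incl : (incl Y η).Faithful :=
  ⟨fun h => Subtype.ext ((aff Y).map_injective (congrArg Subtype.val h))⟩

theorem exists_hom (d : (Scheme.pointSmallEtale η).fiber.Elements) :
    ∃ a : Idx Y η, Nonempty ((incl Y η).obj a ⟶ d) := by
  obtain ⟨U, p⟩ := d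
  have : Etale U.hom := U.prop
  obtain ⟨C, j, hj, ⟨v, hv⟩, -⟩ := Scheme.exists_affine_mem_range_and_range_subset
    (x := fiberPt p) (U := (⊤ : U.left.Opens)) trivial
  let A : Y.AffineEtale := Scheme.AffineEtale.mk (j ≫ (show U.left ⟶ Y from U.hom))
  let a₁ : (Scheme.AffineEtale.Spec Y).obj A ⟶ U := MorphismProperty.Over.homMk j rfl
  obtain ⟨q, hq, -⟩ := Fiber.exists_fiber_map η a₁ p v hv
  let e := (equivSmallModel.{u} Y.AffineEtale).unitIso.app A
  refine ⟨⟨(equivSmallModel.{u} Y.AffineEtale).functor.obj A,
    (Scheme.pointSmallEtale η).fiber.map ((Scheme.AffineEtale.Spec Y).map e.hom) q⟩,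
    ⟨CategoryOfElements.homMk _ _ ((Scheme.AffineEtale.Spec Y).map e.inv ≫ a₁) ?_⟩⟩
  change (Scheme.pointSmallEtale η).fiber.map ((Scheme.AffineEtale.Spec Y).map e.inv ≫ a₁)
    ((Scheme.pointSmallEtale η).fiber.map ((Scheme.AffineEtale.Spec Y).map e.hom) q) = p
  rw [← Functor.map_comp_apply, ← Category.assoc, ← CategoryTheory.Functor.map_comp, Iso.hom_inv_id,
    CategoryTheory.Functor.map_id]
  exact (congrArg (fun m => (Scheme.pointSmallEtale η).fiber.map m q) (Category.id_comp a₁)).trans hq

instance isCofiltered : IsCofiltered (Idx Y η) :=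
  IsCofiltered.of_exists_of_isCofiltered_of_fullyFaithful (incl Y η) (exists_hom Y η)

instance initial_incl : (incl Y η).Initial :=
  Functor.initial_of_exists_of_isCofiltered_of_fullyFaithful (incl Y η) (exists_hom Y η)

/-- The étale `Y`-scheme of a neighbourhood. -/
noncomputable abbrev nbhd : Idx Y η ⥤ Y.Etale :=
  incl Y η ⋙ CategoryOfElements.π _

instance isAffine_nbhd (a : Idx Y η) : IsAffine ((nbhd Y η).obj a).left :=
  inferInstanceAs (IsAffine (Spec _))

/-- The underlying diagram of schemes. -/
noncomputable abbrev diag : Idx Y η ⥤ Scheme.{u} where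
  obj a := ((nbhd Y η).obj a).left
  map φ := ((nbhd Y η).map φ).left
  map_id a := by rw [CategoryTheory.Functor.map_id]; rfl
  map_comp φ ψ := by rw [CategoryTheory.Functor.map_comp]; rfl

instance isAffine_diag (a : Idx Y η) : IsAffine ((diag Y η).obj a) := isAffine_nbhd Y η a

instance isAffineHom_diag {a b : Idx Y η} (φ : a ⟶ b) : IsAffineHom ((diag Y η).map φ) :=
  inferInstance

/-- The ring diagram. -/
noncomputable abbrev rings : (Idx Y η)ᵒᵖ ⥤ CommRingCat.{u} :=
  (incl Y η).op ⋙ (CategoryOfElements.π (Scheme.pointSmallEtale η).fiber).op ⋙ EtBase.OO Y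

/-- The local ring is the colimit over the affine neighbourhoods. -/
noncomputable def isColimit_rings :
    IsColimit (((Scheme.pointSmallEtale η).presheafFiberCocone (EtBase.OO Y)).whisker (incl Y η).op) :=
  (Functor.Final.isColimitWhiskerEquiv (incl Y η).op _).symm
    ((Scheme.pointSmallEtale η).isColimitPresheafFiberCocone (EtBase.OO Y))

/-- The diagram is the diagram of spectra of the rings. -/
noncomputable def diagIso : (rings Y η).rightOp ⋙ Scheme.Spec ≅ diag Y η :=
  NatIso.ofComponents (fun a => ((diag Y η).obj a).isoSpec.symm) fun {a b} φ =>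
    (Iso.comp_inv_eq _).mpr ((Category.assoc _ _ _).trans
      ((Iso.inv_comp_eq _).mpr (Scheme.isoSpec_hom_naturality ((diag Y η).map φ)).symm)).symm

/-- The strictly local scheme at `η`. -/
noncomputable abbrev S : Scheme.{u} := Spec (EtBase.etaleLocalRing η)

/-- The cone of the strictly local scheme. -/
noncomputable def cone : Cone (diag Y η) :=
  (Cone.postcompose (diagIso Y η).hom).obj
    (Scheme.Spec.mapCone (coneRightOpOfCocone
      (((Scheme.pointSmallEtale η).presheafFiberCocone (EtBase.OO Y)).whisker (incl Y η).op)))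

/-- The strictly local scheme is the limit of the affine neighbourhoods. -/
noncomputable def isLimitCone : IsLimit (cone Y η) :=
  (IsLimit.postcomposeHomEquiv (diagIso Y η) _).symm
    (isLimitOfPreserves Scheme.Spec
      (isLimitConeRightOpOfCocone (rings Y η) (isColimit_rings Y η)))

/-- The leg at a neighbourhood. -/
theorem cone_π (a : Idx Y η) :
    (cone Y η).π.app a = Spec.map (LocalRing.germ η ((nbhd Y η).obj a) a.2) ≫
      ((diag Y η).obj a).isoSpec.inv := rfl

end Groth.Agent.Lib.EtLim50.Nbhds
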