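import Groth.Agent.Lib.EtLim50.Stage
import Groth.Agent.Lib.Gabber50.Sections

/-!
# Sections of an inverse image on a limit of étale schemes

For a cofiltered diagram `W` of étale `X`-schemes with affine transition maps and limit `q : P ⟶ X`,
the sections of `q^* F` on `P` are the colimit of the sections of `F` on the `W j`.
-/

universe u

open CategoryTheory CategoryTheory.Limits AlgebraicGeometry TopologicalSpace Opposite

set_option backward.isDefEq.respectTransparency false

namespace Groth.Agent.Lib.EtLim50.Sections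

open Groth.Agent.Lib.EtSite Groth.Agent.Lib.EtSite.Basic Groth.Agent.Lib.EtSite.Stalk
  Groth.Agent.Lib.EtSite.PushStalk Groth.Agent.Lib.EtSite.UnitStalk Groth.Agent.Lib.EtSite.HensClosed
open Groth.Agent.Lib.EtGerm.Basic (germ germ_map agree germ_eq_iff prodEt prodFst prodSnd)
open Groth.Agent.Lib.Gabber50.Sections (subsingleton_fiber_top)

variable {X : Scheme.{u}} {I : Type u} [SmallCategory I] (W : I ⥤ X.Etale)

/-- The underlying diagram of schemes. -/
noncomputable abbrev diag : I ⥤ Scheme.{u} where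
  obj j := (W.obj j).left
  map φ := (W.map φ).left
  map_id j := by rw [W.map_id]; rfl
  map_comp φ ψ := by rw [W.map_comp]; rfl

/-- The structure map of a stage. -/
noncomputable abbrev hW (j : I) : (diag W).obj j ⟶ X := (W.obj j).hom

/-- The scheme of an etale scheme. -/
noncomputable abbrev sch (U : X.Etale) : Scheme.{u} := U.left

/-- The structure map of an etale scheme. -/
noncomputable abbrev str (U : X.Etale) : sch U ⟶ X := U.hom

variable {W} {c : Cone (diag W)} (q : c.pt ⟶ X) (hq : ∀ j, c.π.app j ≫ (W.obj j).hom = q)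
  (F : EtCoh.Ab X)

/-- The tautological section of `W j ×_X P` over `P`. -/
noncomputable def sec (j : I) : EtCoh.top c.pt ⟶ (EtCoh.bc q).obj (W.obj j) :=
  MorphismProperty.Over.homMk
    (pullback.lift (f := (W.obj j).hom) (g := q) (c.π.app j) (𝟙 c.pt)
      ((hq j).trans (Category.id_comp q).symm))
    (pullback.lift_snd _ _ _)

/-- The pullback of a section on a stage. -/
noncomputable def res (j : I) (s : EtCoh.sect F (W.obj j)) :
    EtCoh.sect ((EtCoh.pull q).obj F) (EtCoh.top c.pt) :=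
  ((EtCoh.pull q).obj F).obj.map (sec q hq j).op (unitAt q F (W.obj j) s)

/-- The underlying map of a morphism to a stage. -/
noncomputable abbrev lft {U : X.Etale} {j : I} (e : U ⟶ W.obj j) : sch U ⟶ (diag W).obj j := e.left

omit hq in
theorem lft_comp {U : X.Etale} {j : I} (e : U ⟶ W.obj j) : lft e ≫ hW W j = str U := Over.w e.hom

omit hq in
theorem map_comp_hW {j k : I} (φ : k ⟶ j) : (diag W).map φ ≫ hW W j = hW W k := Over.w (W.map φ).hom

section point

variable {Ω : Type u} [Field Ω] [IsSepClosed Ω] (ξ : Spec (CommRingCat.of Ω) ⟶ c.pt)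

/-- The point of `W j` under a geometric point of the limit. -/
noncomputable def pj (j : I) : (Scheme.pointSmallEtale (ξ ≫ q)).fiber.obj (W.obj j) :=
  mkFiber (ξ ≫ q) (W.obj j) (ξ ≫ c.π.app j) ((Category.assoc _ _ _).trans (ξ ≫= hq j))

theorem map_pj {j k : I} (φ : k ⟶ j) :
    (Scheme.pointSmallEtale (ξ ≫ q)).fiber.map (W.map φ) (pj q hq ξ k) = pj q hq ξ j :=
  Over.OverMorphism.ext ((Category.assoc _ _ _).trans (ξ ≫= c.w φ))

theorem fiberPt_pj (j : I) : fiberPt (pj q hq ξ j) = (c.π.app j).base (ξ.base default) := rfl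

/-- The point of `top` over `ξ`. -/
noncomputable def pTop : (Scheme.pointSmallEtale ξ).fiber.obj (EtCoh.top c.pt) :=
  mkFiber ξ (EtCoh.top c.pt) ξ (Category.comp_id _)

theorem map_sec (j : I) :
    (Scheme.pointSmallEtale ξ).fiber.map (sec q hq j) (pTop ξ) =
      liftPt q rfl (W.obj j) (pj q hq ξ j) := by
  apply Over.OverMorphism.ext
  apply pullback.hom_ext
  · refine Eq.trans ?_ (pullback.lift_fst _ _ _).symm
    exact (Category.assoc _ _ _).trans (ξ ≫= pullback.lift_fst _ _ _)
  · refine Eq.trans ?_ (pullback.lift_snd _ _ _).symm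
    exact (Category.assoc _ _ _).trans ((ξ ≫= pullback.lift_snd _ _ _).trans (Category.comp_id _))

/-- The germ of the pullback of a section. -/
theorem germ_res (j : I) (s : EtCoh.sect F (W.obj j)) :
    germ ((EtCoh.pull q).obj F) ξ (EtCoh.top c.pt) (pTop ξ) (res q hq F j s) =
      unitStalk q ξ AddCommGrpCat.{u + 1} F (germ F (ξ ≫ q) (W.obj j) (pj q hq ξ j) s) := by
  refine (germ_map _ ξ (sec q hq j) (pTop ξ) (unitAt q F (W.obj j) s)).trans ?_
  rw [map_sec]
  exact (unitStalk_germ q ξ F (W.obj j) (pj q hq ξ j) s).symm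

end point

theorem ext_of_germ {G : EtCoh.Ab c.pt} {t t' : EtCoh.sect G (EtCoh.top c.pt)}
    (h : ∀ (Ω : Type u) [Field Ω] [IsSepClosed Ω] (ξ : Spec (CommRingCat.of Ω) ⟶ c.pt),
      germ G ξ (EtCoh.top c.pt) (pTop ξ) t = germ G ξ (EtCoh.top c.pt) (pTop ξ) t') : t = t' := by
  refine sections_ext_of_germ G t t' (enoughPts_pt fun x p => ?_)
  have := subsingleton_fiber_top (geomPoint c.pt x)
  rw [Subsingleton.elim p (pTop (geomPoint c.pt x))]
  exact h _ _

variable [IsCofiltered I] [∀ {i j : I} (f : i ⟶ j), IsAffineHom ((diag W).map f)]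
  (hcpt : ∀ j, CompactSpace (W.obj j).left) (hqs : ∀ j, QuasiSeparatedSpace (W.obj j).left)
  (hc : IsLimit c)

include hcpt hc in
/-- Sections on stages with the same pullback agree on a further stage. -/
theorem exists_eq_of_res_eq {j : I} (s s' : EtCoh.sect F (W.obj j))
    (h : res q hq F j s = res q hq F j s') :
    ∃ (k : I) (φ : k ⟶ j), F.obj.map (W.map φ).op s = F.obj.map (W.map φ).op s' := by
  have := hcpt j
  let A : (W.obj j).left.Opens := ⟨agree F (W.obj j) s s', EtGerm.Basic.isOpen_agree F _ _ _⟩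
  obtain ⟨k, φ, hφ⟩ := Stage.exists_range_subset hc (𝟙 (W.obj j).left) A (by
    rintro _ ⟨z, rfl⟩
    let x := (pullback.snd (𝟙 (W.obj j).left) (c.π.app j)).base z
    have hz : (pullback.fst (𝟙 (W.obj j).left) (c.π.app j)).base z = (c.π.app j).base x :=
      congr($(pullback.condition (f := 𝟙 (W.obj j).left) (g := c.π.app j)) z)
    rw [hz]
    let ξ := Push.algPoint c.pt x
    have hx : fiberPt (pj q hq ξ j) = (c.π.app j).base x := by
      rw [fiberPt_pj, Push.algPoint_apply]
    rw [← hx]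
    refine (germ_eq_iff F _ _ _ s s').mp ((unitStalk_injective q ξ F).1 ?_)
    rw [← germ_res, ← germ_res, h])
  refine ⟨k, φ, sections_ext_of_germ F _ _ (enoughPts_pt fun x p => ?_)⟩
  change germ F _ _ p (F.obj.map (W.map φ).op s) = germ F _ _ p (F.obj.map (W.map φ).op s')
  refine (germ_map F _ _ p s).trans (Eq.trans ?_ (germ_map F _ _ p s').symm)
  rw [germ_eq_iff, fiberPt_map]
  let l : (W.obj k).left ⟶ pullback (𝟙 (W.obj j).left) ((diag W).map φ) :=
    pullback.lift (W.map φ).left (𝟙 _) ((Category.comp_id _).trans (Category.id_comp _).symm)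
  exact Set.mem_of_eq_of_mem
    (congr($(pullback.lift_fst (W.map φ).left (𝟙 _) _) (fiberPt p))).symm
    (hφ ⟨l.base (fiberPt p), rfl⟩)

/-- The base change of an étale scheme over a stage to a further stage maps to it. -/
noncomputable def moveHom {U : X.Etale} {j k : I} (e : U ⟶ W.obj j) (φ : k ⟶ j)
    [Etale (pullback.snd (lft (W := W) e) ((diag W).map φ) ≫ hW W k)] :
    Scheme.Etale.mk (pullback.snd (lft e) ((diag W).map φ) ≫ hW W k) ⟶ U :=
  MorphismProperty.Over.homMk (pullback.fst (lft e) ((diag W).map φ)) (by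
    change pullback.fst (lft e) ((diag W).map φ) ≫ str U = _ ≫ hW W k
    rw [← lft_comp e, ← map_comp_hW φ, ← Category.assoc, pullback.condition, Category.assoc])

variable (t : EtCoh.sect ((EtCoh.pull q).obj F) (EtCoh.top c.pt))

/-- A local lift of `t`. -/
structure Datum (j : I) where
  U : X.Etale
  compact : CompactSpace U.left
  e : U ⟶ W.obj j
  s : EtCoh.sect F U
  ok : ∀ (Ω : Type u) [Field Ω] [IsSepClosed Ω] (ξ : Spec (CommRingCat.of Ω) ⟶ c.pt)
    (p : (Scheme.pointSmallEtale (ξ ≫ q)).fiber.obj U),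
    (Scheme.pointSmallEtale (ξ ≫ q)).fiber.map e p = pj q hq ξ j →
      unitStalk q ξ AddCommGrpCat.{u + 1} F (germ F (ξ ≫ q) U p s) =
        germ ((EtCoh.pull q).obj F) ξ (EtCoh.top c.pt) (pTop ξ) t

variable {q hq F t}

/-- The part of the limit covered by a datum. -/
def Datum.dom {j : I} (d : Datum q hq F t j) : Set c.pt :=
  (c.π.app j).base ⁻¹' Set.range d.e.left.base

/-- Moving a datum to a further stage. -/
noncomputable def Datum.move {j k : I} (d : Datum q hq F t j) (φ : k ⟶ j) : Datum q hq F t k :=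
  haveI : Etale (lft d.e) := Fiber.etale_left d.e
  haveI : Etale (pullback.snd (lft d.e) ((diag W).map φ)) := inferInstance
  haveI : Etale (hW W k) := (W.obj k).prop
  let U' : X.Etale := Scheme.Etale.mk (pullback.snd (lft d.e) ((diag W).map φ) ≫ hW W k)
  { U := U'
    compact :=
      haveI : CompactSpace (sch d.U) := d.compact
      haveI : IsAffineHom (pullback.fst (lft d.e) ((diag W).map φ)) :=
        MorphismProperty.pullback_fst (P := @IsAffineHom) _ _ inferInstance
      QuasiCompact.compactSpace_of_compactSpace (pullback.fst (lft d.e) ((diag W).map φ))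
    e := MorphismProperty.Over.homMk (pullback.snd (lft d.e) ((diag W).map φ)) rfl
    s := F.obj.map (moveHom d.e φ).op d.s
    ok := fun Ω _ _ ξ p hp => by
      rw [germ_map]
      refine d.ok Ω ξ _ (Over.OverMorphism.ext ?_)
      refine (Category.assoc _ _ _).trans ((p.left ≫= pullback.condition).trans ?_)
      refine (Category.assoc _ _ _).symm.trans ((congrArg (fun r => r.left ≫ (W.map φ).left) hp).trans ?_)
      exact congrArg CommaMorphism.left (map_pj q hq ξ φ) }

theorem Datum.dom_move {j k : I} (d : Datum q hq F t j) (φ : k ⟶ j) :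
    d.dom ⊆ (d.move φ).dom := by
  rintro x ⟨u, hu⟩
  obtain ⟨w, -, hw⟩ := Scheme.Pullback.exists_preimage_pullback (f := d.e.left)
    (g := (diag W).map φ) u ((c.π.app k).base x) (hu.trans (congr($(c.w φ) x)).symm)
  exact ⟨w, hw⟩

theorem Datum.isOpen_dom {j : I} (d : Datum q hq F t j) : IsOpen d.dom :=
  (Fiber.isOpen_range_left d.e).preimage (c.π.app j).continuous

include hcpt hqs hc in
theorem exists_datum (j₀ : I) (x : c.pt) : ∃ (j : I) (d : Datum q hq F t j), x ∈ d.dom := by
  let ξ := Push.algPoint c.pt x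
  obtain ⟨zF, hzF⟩ := (unitStalk_injective q ξ F).2
    (germ ((EtCoh.pull q).obj F) ξ (EtCoh.top c.pt) (pTop ξ) t)
  obtain ⟨V, p₀, s, rfl⟩ := (Scheme.pointSmallEtale (ξ ≫ q)).toPresheafFiber_jointly_surjective zF
  erw [unitStalk_germ] at hzF
  let G := (EtCoh.pull q).obj F
  let B := (EtCoh.bc q).obj V
  let o : B ⟶ EtCoh.top c.pt := (EtCore.topIsTerminal c.pt).from B
  let Q := G.obj.map o.op t
  have htop : ∀ (Ω : Type u) [Field Ω] [IsSepClosed Ω] (ζ : Spec (CommRingCat.of Ω) ⟶ c.pt)
      (p : (Scheme.pointSmallEtale ζ).fiber.obj B),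
      germ G ζ B p Q = germ G ζ (EtCoh.top c.pt) (pTop ζ) t := by
    intro Ω _ _ ζ p
    refine (germ_map G ζ o p t).trans ?_
    have := subsingleton_fiber_top ζ
    rw [Subsingleton.elim ((Scheme.pointSmallEtale ζ).fiber.map o p) (pTop ζ)]
  have hmem := (germ_eq_iff G ξ B (liftPt q rfl V p₀) (unitAt q F V s) Q).mp
    (hzF.trans (htop _ ξ _).symm)
  -- the chart over the limit
  let R := prodEt V (W.obj j₀)
  let a : pullback (str V) (hW W j₀) ⟶ (diag W).obj j₀ := pullback.snd (str V) (hW W j₀)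
  let β : pullback a (c.π.app j₀) ⟶ pullback (str V) q :=
    pullback.lift (pullback.fst a (c.π.app j₀) ≫ pullback.fst (str V) (hW W j₀))
      (pullback.snd a (c.π.app j₀)) (by
        rw [Category.assoc, pullback.condition, ← Category.assoc, pullback.condition, Category.assoc,
          show c.π.app j₀ ≫ hW W j₀ = q from hq j₀])
  let O : (pullback a (c.π.app j₀)).Opens := ⟨β.base ⁻¹' agree G B (unitAt q F V s) Q,
    (EtGerm.Basic.isOpen_agree G B _ _).preimage β.continuous⟩
  let r : Spec (CommRingCat.of _) ⟶ pullback a (c.π.app j₀) :=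
    pullback.lift (pullback.lift (fiberHom p₀) (ξ ≫ c.π.app j₀)
      ((fiberHom_comp p₀).trans ((Category.assoc _ _ _).trans (ξ ≫= hq j₀)).symm :)) ξ
      (pullback.lift_snd _ _ _)
  have hr : r ≫ β = fiberHom (liftPt q rfl V p₀) := by
    apply pullback.hom_ext
    · refine Eq.trans ?_ (pullback.lift_fst _ _ _).symm
      rw [Category.assoc, pullback.lift_fst, pullback.lift_fst_assoc, pullback.lift_fst]
    · refine Eq.trans ?_ (pullback.lift_snd _ _ _).symm
      rw [Category.assoc, pullback.lift_snd, pullback.lift_snd]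
  have hrO : r.base default ∈ O := by
    change β.base (r.base default) ∈ agree G B (unitAt q F V s) Q
    exact Set.mem_of_eq_of_mem (congr($hr default)) hmem
  obtain ⟨j, φ, l, hl₁, hl₂, U, hU, hrU, hUO⟩ := Stage.exists_basis hc a O hrO
  have : Etale (hW W j) := (W.obj j).prop
  have : Etale (str V) := V.prop
  have : Etale (pullback.snd a ((diag W).map φ)) := by
    have : Etale a := inferInstanceAs (Etale (pullback.snd _ _))
    infer_instance
  let b : (U : Scheme.{u}) ⟶ (diag W).obj j := U.ι ≫ pullback.snd a ((diag W).map φ)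
  let U' : X.Etale := Scheme.Etale.mk (b ≫ hW W j)
  let aV : U' ⟶ V := MorphismProperty.Over.homMk
    (U.ι ≫ pullback.fst a ((diag W).map φ) ≫ pullback.fst (str V) (hW W j₀)) (by
      change (U.ι ≫ pullback.fst a ((diag W).map φ) ≫ pullback.fst (str V) (hW W j₀)) ≫ str V =
        (U.ι ≫ pullback.snd a ((diag W).map φ)) ≫ hW W j
      simp only [Category.assoc]
      refine congrArg (U.ι ≫ ·) ?_
      rw [pullback.condition, ← Category.assoc, pullback.condition, Category.assoc]
      rw [map_comp_hW])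
  refine ⟨j, ⟨U', isCompact_iff_compactSpace.mp hU.isCompact, MorphismProperty.Over.homMk b rfl,
    F.obj.map aV.op s, ?_⟩, ⟨⟨l.base (r.base default), hrU⟩, ?_⟩⟩
  · intro Ω _ _ ζ p hp
    rw [germ_map]
    refine (unitStalk_germ q ζ F V _ s).trans (Eq.trans ?_
      (htop Ω ζ (liftPt q rfl V ((Scheme.pointSmallEtale (ζ ≫ q)).fiber.map aV p))))
    refine (germ_eq_iff G ζ B _ _ _).mpr ?_
    have hb : fiberHom p ≫ b = ζ ≫ c.π.app j := congrArg CommaMorphism.left hp
    let r' : Spec (CommRingCat.of Ω) ⟶ pullback a (c.π.app j₀) :=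
      pullback.lift (fiberHom p ≫ U.ι ≫ pullback.fst a ((diag W).map φ)) ζ (by
        simp only [Category.assoc]
        rw [pullback.condition, ← Category.assoc U.ι, ← Category.assoc (fiberHom p)]
        refine (congrArg (· ≫ (diag W).map φ) hb).trans ?_
        rw [Category.assoc, c.w])
    have hr'l : r' ≫ l = fiberHom p ≫ U.ι := by
      apply pullback.hom_ext
      · rw [Category.assoc, hl₁, Category.assoc]; exact pullback.lift_fst _ _ _
      · rw [Category.assoc, hl₂, ← Category.assoc, pullback.lift_snd, Category.assoc]; exact hb.symm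
    have hr'O : r'.base default ∈ O := hUO (by
      change l.base (r'.base default) ∈ U
      exact Set.mem_of_eq_of_mem (congr($hr'l default))
        ((fiberHom p).base default : (U : Scheme.{u})).2)
    refine Set.mem_of_eq_of_mem ?_ hr'O
    have h3 : fiberHom (liftPt q rfl V ((Scheme.pointSmallEtale (ζ ≫ q)).fiber.map aV p)) = r' ≫ β := by
      apply pullback.hom_ext
      · refine (pullback.lift_fst _ _ _).trans ?_
        rw [Category.assoc, pullback.lift_fst, pullback.lift_fst_assoc, Category.assoc, Category.assoc]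
        rfl
      · refine (pullback.lift_snd _ _ _).trans ?_
        rw [Category.assoc, pullback.lift_snd, pullback.lift_snd]
    exact congr($h3 default)
  · have h1 : r ≫ l ≫ pullback.snd a ((diag W).map φ) = ξ ≫ c.π.app j := by
      rw [hl₂, ← Category.assoc, pullback.lift_snd]
    refine (congr($h1 default)).trans ?_
    exact congrArg (c.π.app j).base (Push.algPoint_apply (X := c.pt) x default)

include hqs hc in
/-- Two data agree on a further stage. -/
theorem exists_agree {k₀ : I} (d d' : Datum q hq F t k₀) :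
    ∃ (k : I) (φ : k ⟶ k₀) (Y : X.Etale) (f₁ : Y ⟶ d.U) (f₂ : Y ⟶ d'.U) (A : Y.left.Opens),
      (∀ (S : X.Etale) (g₁ : S ⟶ d.U) (g₂ : S ⟶ d'.U), g₁ ≫ d.e = g₂ ≫ d'.e →
        ∃ g : S ⟶ Y, g ≫ f₁ = g₁ ∧ g ≫ f₂ = g₂ ∧
        ∀ u : S.left, (∃ w : (W.obj k).left,
          (W.map φ).left.base w = (g₁ ≫ d.e).left.base u) → g.left.base u ∈ A) ∧
      (A : Set Y.left) ⊆ agree F Y (F.obj.map f₁.op d.s) (F.obj.map f₂.op d'.s) := by
  let ea := lft d.e
  let eb := lft d'.e
  have : Etale ea := Fiber.etale_left d.e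
  have : Etale eb := Fiber.etale_left d'.e
  have : Etale (hW W k₀) := (W.obj k₀).prop
  let y : pullback ea eb ⟶ (diag W).obj k₀ := pullback.fst ea eb ≫ ea
  let Y : X.Etale := Scheme.Etale.mk (y ≫ hW W k₀)
  let f₁ : Y ⟶ d.U := MorphismProperty.Over.homMk (pullback.fst ea eb) (by
    change pullback.fst ea eb ≫ str d.U = (pullback.fst ea eb ≫ ea) ≫ hW W k₀
    rw [Category.assoc, lft_comp])
  let f₂ : Y ⟶ d'.U := MorphismProperty.Over.homMk (pullback.snd ea eb) (by
    change pullback.snd ea eb ≫ str d'.U = (pullback.fst ea eb ≫ ea) ≫ hW W k₀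
    rw [pullback.condition, Category.assoc, lft_comp])
  let A : Y.left.Opens := ⟨agree F Y (F.obj.map f₁.op d.s) (F.obj.map f₂.op d'.s),
    EtGerm.Basic.isOpen_agree F _ _ _⟩
  have : CompactSpace ↥(pullback ea eb : Scheme.{u}) := by
    have : CompactSpace (sch d.U) := d.compact
    have : CompactSpace (sch d'.U) := d'.compact
    have : QuasiSeparatedSpace ((diag W).obj k₀) := hqs k₀
    have : QuasiCompact eb := quasiCompact_of_compactSpace eb
    exact QuasiCompact.compactSpace_of_compactSpace (pullback.fst ea eb)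
  let ey : Y ⟶ W.obj k₀ := MorphismProperty.Over.homMk y rfl
  obtain ⟨k, φ, hφ⟩ := Stage.exists_range_subset hc y A (by
    rintro _ ⟨z, rfl⟩
    let x := (pullback.snd y (c.π.app k₀)).base z
    let ξ := Push.algPoint c.pt x
    have hz : y.base ((pullback.fst y (c.π.app k₀)).base z) = fiberPt (pj q hq ξ k₀) :=
      (congr($(pullback.condition (f := y) (g := c.π.app k₀)) z)).trans (congrArg (c.π.app k₀).base
        (Push.algPoint_apply (X := c.pt) x default).symm)
    obtain ⟨p, hp, hp'⟩ := Fiber.exists_fiber_map _ ey (pj q hq ξ k₀)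
      ((pullback.fst y (c.π.app k₀)).base z) hz
    rw [← hp']
    refine (germ_eq_iff F _ Y p _ _).mp ((unitStalk_injective q ξ F).1 ?_)
    rw [germ_map, germ_map]
    refine (d.ok _ ξ _ ?_).trans (d'.ok _ ξ _ ?_).symm
    · rw [← hp]; exact Over.OverMorphism.ext (Category.assoc _ _ _)
    · rw [← hp]
      exact Over.OverMorphism.ext ((Category.assoc _ _ _).trans (p.left ≫= pullback.condition.symm)))
  refine ⟨k, φ, Y, f₁, f₂, A, fun S g₁ g₂ hg => ?_, le_refl _⟩
  let v₁ : sch S ⟶ sch d.U := g₁.left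
  let v₂ : sch S ⟶ sch d'.U := g₂.left
  have hv : v₁ ≫ ea = v₂ ≫ eb := congrArg (fun r : S ⟶ W.obj k₀ => r.left) hg
  let g : S ⟶ Y := MorphismProperty.Over.homMk (pullback.lift v₁ v₂ hv) (by
    change pullback.lift v₁ v₂ hv ≫ (pullback.fst ea eb ≫ ea) ≫ hW W k₀ = str S
    rw [Category.assoc, pullback.lift_fst_assoc, lft_comp]
    exact Over.w g₁.hom)
  refine ⟨g, MorphismProperty.Over.Hom.ext (pullback.lift_fst _ _ _),
    MorphismProperty.Over.Hom.ext (pullback.lift_snd _ _ _), fun u ⟨w, hw⟩ => ?_⟩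
  have h3 : pullback.lift v₁ v₂ hv ≫ y = v₁ ≫ ea := pullback.lift_fst_assoc _ _ _ _
  have hgu : y.base (g.left.base u) = ((diag W).map φ).base w := (congr($h3 u)).trans hw.symm
  obtain ⟨z', hz', -⟩ := Scheme.Pullback.exists_preimage_pullback (f := y) (g := (diag W).map φ)
    (g.left.base u) w hgu
  exact hφ ⟨z', hz'⟩

include hcpt hqs hc in
/-- Every section comes from a stage. -/
theorem exists_res_eq (j₀ : I) : ∃ (j : I) (s : EtCoh.sect F (W.obj j)), res q hq F j s = t := by
  classical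
  have := hcpt j₀
  have : CompactSpace c.pt := Lim.Basic.compactSpace_pt hc j₀
  choose jx dx hdx using exists_datum hcpt hqs hc (t := t) (hq := hq) (F := F) j₀
  obtain ⟨T, hT⟩ := isCompact_univ.elim_finite_subcover (fun x : c.pt => (dx x).dom)
    (fun x => (dx x).isOpen_dom) (fun x _ => Set.mem_iUnion.mpr ⟨x, hdx x⟩)
  obtain ⟨k₀, hk₀⟩ := IsCofiltered.inf_objs_exists (T.image jx)
  let m : ∀ x : {x // x ∈ T}, k₀ ⟶ jx x.1 := fun x =>
    (hk₀ (Finset.mem_image_of_mem jx x.2)).some
  let d : {x // x ∈ T} → Datum q hq F t k₀ := fun x => (dx x.1).move (m x)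
  have hd : ∀ x : c.pt, ∃ a, x ∈ (d a).dom := by
    intro x
    obtain ⟨y, hy, hxy⟩ := Set.mem_iUnion₂.mp (hT (Set.mem_univ x))
    exact ⟨⟨y, hy⟩, (dx y).dom_move _ hxy⟩
  -- the covering holds at a stage
  have := hcpt k₀
  obtain ⟨k₁, φ₁, hφ₁⟩ := Stage.exists_range_subset hc (𝟙 (W.obj k₀).left)
    ⟨⋃ a, Set.range (d a).e.left.base, isOpen_iUnion fun a => Fiber.isOpen_range_left _⟩ (by
    rintro _ ⟨z, rfl⟩
    obtain ⟨a, u, hu⟩ := hd ((pullback.snd (𝟙 (W.obj k₀).left) (c.π.app k₀)).base z)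
    exact Set.mem_iUnion.mpr ⟨a, u, hu.trans (congr($(pullback.condition (f := 𝟙 ((diag W).obj k₀)) (g := c.π.app k₀)) z)).symm⟩)
  -- agreement holds at a stage
  have hagree := fun ab : {x // x ∈ T} × {x // x ∈ T} => exists_agree hqs hc (d ab.1) (d ab.2)
  choose k φ Y f₁ f₂ A hlift hA using hagree
  obtain ⟨k₂, hk₂, hcomm⟩ := IsCofiltered.inf_exists
    (insert k₀ (insert k₁ (Finset.univ.image k)))
    (insert (⟨k₁, k₀, by simp, by simp, φ₁⟩ : Σ' (X Y : I) (_ : X ∈ _) (_ : Y ∈ _), X ⟶ Y)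
      (Finset.univ.image fun ab => (⟨k ab, k₀, by simp, by simp, φ ab⟩ :
        Σ' (X Y : I) (_ : X ∈ _) (_ : Y ∈ _), X ⟶ Y)))
  let ψ : k₂ ⟶ k₀ := hk₂ (X := k₀) (by simp)
  let ψ₁ : k₂ ⟶ k₁ := hk₂ (X := k₁) (by simp)
  let e : ∀ a, ((d a).move ψ).U ⟶ W.obj k₂ := fun a => ((d a).move ψ).e
  have hψ₁ : ψ₁ ≫ φ₁ = ψ := hcomm _ _ (Finset.mem_insert_self _ _)
  have hS : (Presieve.ofArrows (fun a => ((d a).move ψ).U) e).IsSheafFor
      (F.obj ⋙ forget AddCommGrpCat.{u + 1}) := by
    rw [Presieve.isSheafFor_iff_generate]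
    refine (isSheaf_iff_isSheaf_of_type _ _).1
      ((sheafCompose _ (forget AddCommGrpCat.{u + 1})).obj F).2 _ (ofArrows_mem _ _ fun w => ?_)
    let l : (W.obj k₂).left ⟶ pullback (𝟙 (W.obj k₀).left) ((diag W).map φ₁) :=
      pullback.lift (W.map ψ).left (W.map ψ₁).left ((Category.comp_id _).trans (by
        rw [← hψ₁]; exact (diag W).map_comp ψ₁ φ₁))
    have hw : (W.map ψ).left.base w ∈ ⋃ a, Set.range (d a).e.left.base :=
      Set.mem_of_eq_of_mem (congr($(pullback.lift_fst (W.map ψ).left _ _) w)).symm (hφ₁ ⟨l.base w, rfl⟩)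
    obtain ⟨a, u, hu⟩ := Set.mem_iUnion.mp hw
    obtain ⟨u', -, hu'⟩ := Scheme.Pullback.exists_preimage_pullback (f := (d a).e.left)
      (g := (diag W).map ψ) u w hu
    exact ⟨a, u', hu'⟩
  obtain ⟨s, hs, -⟩ := (Presieve.isSheafFor_arrows_iff _ _).1 hS (fun a => ((d a).move ψ).s)
    fun a b S g₁ g₂ hg => by
    let pa : ((d a).move ψ).U ⟶ (d a).U := MorphismProperty.Over.homMk
      (pullback.fst (d a).e.left ((diag W).map ψ))
      ((_ ≫= (Over.w (d a).e.hom).symm).trans ((Category.assoc _ _ _).symm.trans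
        ((congrArg (· ≫ (W.obj k₀).hom) pullback.condition).trans ((Category.assoc _ _ _).trans
          (_ ≫= Over.w (W.map ψ).hom)))))
    let pb : ((d b).move ψ).U ⟶ (d b).U := MorphismProperty.Over.homMk
      (pullback.fst (d b).e.left ((diag W).map ψ))
      ((_ ≫= (Over.w (d b).e.hom).symm).trans ((Category.assoc _ _ _).symm.trans
        ((congrArg (· ≫ (W.obj k₀).hom) pullback.condition).trans ((Category.assoc _ _ _).trans
          (_ ≫= Over.w (W.map ψ).hom)))))
    have ha : pa ≫ (d a).e = e a ≫ W.map ψ := MorphismProperty.Over.Hom.ext pullback.condition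
    have hb : pb ≫ (d b).e = e b ≫ W.map ψ := MorphismProperty.Over.Hom.ext pullback.condition
    have hg' : (g₁ ≫ pa) ≫ (d a).e = (g₂ ≫ pb) ≫ (d b).e := by
      simp only [Category.assoc, ha, hb]
      rw [← Category.assoc, hg, Category.assoc]
    obtain ⟨g, hga, hgb, hgA⟩ := hlift (a, b) S (g₁ ≫ pa) (g₂ ≫ pb) hg'
    change F.obj.map g₁.op (F.obj.map pa.op (d a).s) = F.obj.map g₂.op (F.obj.map pb.op (d b).s)
    simp only [← ConcreteCategory.comp_apply, ← Functor.map_comp, ← op_comp, ← hga, ← hgb]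
    simp only [op_comp, Functor.map_comp, ConcreteCategory.comp_apply]
    refine sections_ext_of_germ F _ _ (enoughPts_pt fun x p => ?_)
    refine (germ_map F _ g p _).trans (Eq.trans ?_ (germ_map F _ g p _).symm)
    rw [germ_eq_iff, fiberPt_map]
    let χ : k₂ ⟶ k (a, b) := hk₂ (X := k (a, b)) (by simp)
    have hχ : χ ≫ φ (a, b) = ψ := hcomm _ _
      (Finset.mem_insert_of_mem (Finset.mem_image_of_mem _ (Finset.mem_univ (a, b))))
    refine hA (a, b) (hgA (fiberPt p) ⟨((g₁ ≫ e a) ≫ W.map χ).left.base (fiberPt p), ?_⟩)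
    have h4 : ((g₁ ≫ e a) ≫ W.map χ) ≫ W.map (φ (a, b)) = (g₁ ≫ pa) ≫ (d a).e := by
      rw [Category.assoc, Category.assoc, ← W.map_comp, hχ, Category.assoc, ha]
    exact congrArg (fun r : S ⟶ W.obj k₀ => r.left.base (fiberPt p)) h4
  refine ⟨k₂, s, ext_of_germ fun Ω _ _ ξ => ?_⟩
  rw [germ_res]
  obtain ⟨a, ha⟩ := hd (ξ.base default)
  obtain ⟨u, hu⟩ := (d a).dom_move ψ ha
  obtain ⟨p, hp, -⟩ := Fiber.exists_fiber_map _ ((d a).move ψ).e (pj q hq ξ k₂) u hu
  rw [← ((d a).move ψ).ok Ω ξ p hp, ← hs a]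
  refine congrArg _ ?_
  exact ((congrArg (fun r => germ F (ξ ≫ q) _ r s) hp).symm).trans (germ_map F _ _ p s).symm

end Groth.Agent.Lib.EtLim50.Sections
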